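import Cfsg.Agent.Lib.Co1Recog.Weak.Wrap
import Cfsg.Agent.S1718

/-!
The first Conway group from an involution centraliser, once another conjugate lies in the 2-core.
-/

set_option autoImplicit false
set_option maxRecDepth 20000
set_option synthInstance.maxSize 4000
set_option synthInstance.maxHeartbeats 400000

namespace Cfsg.Agent.Co1Weak

open Cfsg Subgroup

/-- The reduction to the large extraspecial hypothesis. -/
theorem isoCo1_of_fused {G : Type*} [Group G] [Finite G] (t : G) (ht : orderOf t = 2)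
    (hcon : Cfsg.IsPConstrained 2 (Subgroup.centralizer ({t} : Set G)))
    (hQ : Cfsg.IsExtraspecial 2 (Cfsg.pCore 2 (Subgroup.centralizer ({t} : Set G))))
    (hcard : Nat.card (Cfsg.pCore 2 (Subgroup.centralizer ({t} : Set G))) = 2 ^ 9)
    (e : (Subgroup.centralizer ({t} : Set G)) ⧸ Cfsg.pCore 2 (Subgroup.centralizer ({t} : Set G)) ≃*
      Cfsg.Omega (ZMod 2) (Cfsg.quadFormPlus 4 (ZMod 2)))
    (hnwc : ∃ g : G, (∃ hq : g * t * g⁻¹ ∈ Subgroup.centralizer ({t} : Set G),
      (⟨g * t * g⁻¹, hq⟩ : Subgroup.centralizer ({t} : Set G)) ∈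
        Cfsg.pCore 2 (Subgroup.centralizer ({t} : Set G))) ∧ g * t * g⁻¹ ≠ t) :
    Cfsg.Spor.IsoCo1 G :=
  S1718.result t ht _ (fitting_eq hcon e) hQ hcard e hnwc

end Cfsg.Agent.Co1Weak
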