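import Cfsg.Agent.Lib.Co1Recog.Weak.ByCentraliser
import Cfsg.Agent.Lib.Co1Recog.NonWeak.Setting
import Cfsg.Agent.Lib.McLTwoA8.Isolated
import Cfsg.Agent.Lib.CoT.Wrap

/-!
The first Conway group from an involution centraliser: the weakly closed case reduces to a pair of
commuting conjugates.
-/

set_option autoImplicit false
set_option maxRecDepth 20000
set_option synthInstance.maxSize 4000
set_option synthInstance.maxHeartbeats 400000

namespace Cfsg.Agent.Co1Weak

open Cfsg Subgroup CoT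

universe u

/-- A weakly closed involution is not isolated, so some other conjugate commutes with it. -/
theorem exists_pr {G : Type u} [Group G] [Finite G] (hO : Cfsg.oddCore G = ⊥) (hZ : Subgroup.center G = ⊥)
    (t : G) (ht : orderOf t = 2)
    (hcon : Cfsg.IsPConstrained 2 (Subgroup.centralizer ({t} : Set G)))
    (hQ : Cfsg.IsExtraspecial 2 (Cfsg.pCore 2 (Subgroup.centralizer ({t} : Set G))))
    (hcard : Nat.card (Cfsg.pCore 2 (Subgroup.centralizer ({t} : Set G))) = 2 ^ 9)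
    (e : (Subgroup.centralizer ({t} : Set G)) ⧸ Cfsg.pCore 2 (Subgroup.centralizer ({t} : Set G)) ≃*
      Cfsg.Omega (ZMod 2) (Cfsg.quadFormPlus 4 (ZMod 2)))
    (hwc : ¬ ∃ g : G, (∃ hq : g * t * g⁻¹ ∈ Subgroup.centralizer ({t} : Set G),
      (⟨g * t * g⁻¹, hq⟩ : Subgroup.centralizer ({t} : Set G)) ∈
        Cfsg.pCore 2 (Subgroup.centralizer ({t} : Set G))) ∧ g * t * g⁻¹ ≠ t) :
    ∃ Q : Subgroup G, ∃ π ρ, ∃ g x : G, Co1NW.Pr t Q π ρ g x := by
  obtain ⟨π, ρ, S⟩ := exists_su ht (Cfsg.pCore 2 (Subgroup.centralizer ({t} : Set G)))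
    (fitting_eq hcon e) hQ hcard e
  have hni : ¬ Cfsg.IsIsolated t := fun h => by
    have h1 := McLTwoA8.sup_oddCore_of_isolated t ht h
    rw [hO, sup_bot_eq] at h1
    have hc : t ∈ Subgroup.center G := Subgroup.mem_center_iff.2 fun g =>
      Subgroup.mem_centralizer_singleton_iff.1 (h1 ▸ Subgroup.mem_top g)
    rw [hZ, Subgroup.mem_bot] at hc
    simp [hc] at ht
  simp only [IsIsolated, not_forall] at hni
  obtain ⟨g, hc, hne⟩ := hni
  refine ⟨_, π, ρ, g, g * t * g⁻¹, S, fun k hk => ?_, rfl, hc.symm.eq, hne⟩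
  by_contra hk'
  obtain ⟨y, hy, e'⟩ := hk
  have e'' : (y : G) = k * t * k⁻¹ := e'
  refine hwc ⟨k, ⟨e'' ▸ y.2, ?_⟩, hk'⟩
  have : (⟨k * t * k⁻¹, e'' ▸ y.2⟩ : Subgroup.centralizer ({t} : Set G)) = y := Subtype.ext e''.symm
  rw [this]
  exact hy

/-- The recognition theorem, granted that no commuting pair exists in the weakly closed case. -/
theorem isoCo1 {G : Type u} [Group G] [Finite G] (hO : Cfsg.oddCore G = ⊥) (hZ : Subgroup.center G = ⊥)
    (t : G) (ht : orderOf t = 2)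
    (hcon : Cfsg.IsPConstrained 2 (Subgroup.centralizer ({t} : Set G)))
    (hQ : Cfsg.IsExtraspecial 2 (Cfsg.pCore 2 (Subgroup.centralizer ({t} : Set G))))
    (hcard : Nat.card (Cfsg.pCore 2 (Subgroup.centralizer ({t} : Set G))) = 2 ^ 9)
    (e : (Subgroup.centralizer ({t} : Set G)) ⧸ Cfsg.pCore 2 (Subgroup.centralizer ({t} : Set G)) ≃*
      Cfsg.Omega (ZMod 2) (Cfsg.quadFormPlus 4 (ZMod 2)))
    (noPair : ∀ (Q : Subgroup G) (π : G → V) (ρ : G → V → V) (g x : G),
      Co1NW.Pr t Q π ρ g x → False) :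
    Cfsg.Spor.IsoCo1 G := by
  by_contra h
  obtain ⟨Q, π, ρ, g, x, P⟩ := exists_pr hO hZ t ht hcon hQ hcard e fun hnwc =>
    h (isoCo1_of_fused t ht hcon hQ hcard e hnwc)
  exact noPair Q π ρ g x P

end Cfsg.Agent.Co1Weak
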