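import Cfsg.Agent.Lib.E8Cent.Co1
import Cfsg.Agent.Lib.Techniques.PConstrained
import Cfsg.Agent.Lib.Components.Local
import Cfsg.Agent.Lib.Transfer.Basic

/-!
The hypothesis of constraint gives the generalised Fitting subgroup of the centraliser.
-/

set_option autoImplicit false
set_option maxRecDepth 20000
set_option synthInstance.maxSize 4000
set_option synthInstance.maxHeartbeats 400000

namespace Cfsg.Agent.Co1Weak

open Cfsg Cfsg.Agent.PermCert Subgroup

theorem simple_omega : IsSimpleGroup (Omega (ZMod 2) (quadFormPlus 4 (ZMod 2))) := by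
  obtain ⟨φ, hφ, hr, -⟩ := SchurMult.exists_o82_hom (F := ZMod 2) (ZMod.card 2)
  have := E8Cent.simple_o82
  exact ((MonoidHom.ofInjective hφ).trans (MulEquiv.subgroupCongr hr)).isSimpleGroup

/-- The centraliser has trivial odd core and generalised Fitting subgroup its 2-core. -/
theorem fitting_eq {C : Type*} [Group C] [Finite C] (hcon : Cfsg.IsPConstrained 2 C)
        (e : C ⧸ Cfsg.pCore 2 C ≃* Cfsg.Omega (ZMod 2) (Cfsg.quadFormPlus 4 (ZMod 2))) :
    Cfsg.generalizedFittingSubgroup C = Cfsg.pCore 2 C := by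
  haveI : Fact (Nat.Prime 2) := ⟨Nat.prime_two⟩
  haveI := simple_omega
  haveI : IsSimpleGroup (C ⧸ Cfsg.pCore 2 C) := e.isSimpleGroup
  refine Components.generalizedFitting_eq_pCore_iff.2 (PConstr.isCharP_of_isPConstrained hcon ?_)
  set O := Cfsg.pPrimeCore 2 C
  have hO : (Nat.card O).Coprime 2 := PBasic.pPrimeCore_coprime 2 C
  have hN : (O.map (QuotientGroup.mk' (Cfsg.pCore 2 C))).Normal :=
    (Subgroup.Normal.map inferInstance _ (QuotientGroup.mk'_surjective _))
  rcases hN.eq_bot_or_eq_top with h | h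
  · rw [Subgroup.map_eq_bot_iff, QuotientGroup.ker_mk'] at h
    refine Subgroup.eq_bot_of_card_eq _ (Nat.eq_one_of_dvd_coprimes hO dvd_rfl ?_)
    obtain ⟨k, hk⟩ := IsPGroup.iff_card.1 (PBasic.pCore_isPGroup 2 C)
    have h2 := Subgroup.card_dvd_of_le h
    rw [hk] at h2
    have h3 := Nat.Coprime.eq_one_of_dvd (hO.pow_right k) h2
    rw [h3]
    exact one_dvd _
  · exfalso
    have h1 : Nat.card (C ⧸ Cfsg.pCore 2 C) ∣ Nat.card O := by
      rw [← Subgroup.card_top (G := C ⧸ Cfsg.pCore 2 C), ← h]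
      exact Subgroup.card_map_dvd _ _
    have h2 : 2 ∣ Nat.card (C ⧸ Cfsg.pCore 2 C) := by
      rw [Nat.card_congr e.toEquiv]
      obtain ⟨φ, hφ, hr, -⟩ := SchurMult.exists_o82_hom (F := ZMod 2) (ZMod.card 2)
      rw [Nat.card_congr (MonoidHom.ofInjective hφ).toEquiv, hr, cert_card SchurMult.o82_cert,
        SchurMult.o82_order]
      norm_num
    exact absurd (Nat.eq_one_of_dvd_coprimes hO (h2.trans h1) dvd_rfl) (by norm_num)

end Cfsg.Agent.Co1Weak
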